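import Cfsg.Agent.H284.EP.TForm

/-!
# Extremely primitive groups: a two point stabiliser of order at most four (helper447, for S3499 / helper91)

`kill_small` : `|A ∩ A^x| ≤ 4` and `A` not metabelian is impossible: `M0` is abelian, so `A` has an abelian `Γ`-invariant subgroup
`K ≠ 1` with `|A : K| = |M0| ≤ 4`.
-/

set_option autoImplicit false

namespace Cfsg.Agent.H447.EP

open Subgroup Cfsg.Agent.H284
open scoped commutatorElement

/-- a group of order at most four is commutative -/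
theorem comm_of_card_le_four {G : Type*} [Group G] [Finite G] (h : Nat.card G ≤ 4) (a b : G) : a * b = b * a := by
  classical
  by_contra hne
  have := Fintype.ofFinite G
  have h1 : a ≠ 1 := by rintro rfl; exact hne (by rw [one_mul, mul_one])
  have h2 : b ≠ 1 := by rintro rfl; exact hne (by rw [one_mul, mul_one])
  have h3 : a ≠ b := by rintro rfl; exact hne rfl
  have h4 : a * b ≠ 1 := fun h' => hne (by rw [h', eq_inv_of_mul_eq_one_left h', mul_inv_cancel])
  have h4' : b * a ≠ 1 := fun h' => hne (by rw [h', eq_inv_of_mul_eq_one_right h', inv_mul_cancel])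
  have h5 : a * b ≠ a := fun h' => h2 (mul_eq_left.1 h')
  have h6 : a * b ≠ b := fun h' => h1 (mul_eq_right.1 h')
  have h7 : b * a ≠ a := fun h' => h2 (mul_eq_right.1 h')
  have h8 : b * a ≠ b := fun h' => h1 (mul_eq_left.1 h')
  have h9 : ({1, a, b, a * b, b * a} : Finset G).card ≤ Fintype.card G := Finset.card_le_univ _
  rw [Finset.card_insert_of_notMem (by simp [h1.symm, h2.symm, h4.symm, h4'.symm]),
    Finset.card_insert_of_notMem (by simp [h3, h5.symm, h7.symm]),
    Finset.card_insert_of_notMem (by simp [h6.symm, h8.symm]), Finset.card_pair hne, ← Nat.card_eq_fintype_card] at h9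
  omega

/-- **small two point stabilisers** -/
theorem kill_small {Q : Type*} [Group Q] [Finite Q] {A : Subgroup Q} {Γ : Subgroup (MulAut Q)} (h : EPT A Γ) {x : Q}
    (hx : x ∉ A) (h4 : Nat.card (A ⊓ cj x A : Subgroup Q) ≤ 4) {a b c d : Q} (ha : a ∈ A) (hb : b ∈ A) (hc : c ∈ A)
    (hd : d ∈ A) (hne : ⁅a, b⁆ * ⁅c, d⁆ ≠ ⁅c, d⁆ * ⁅a, b⁆) : False := by
  obtain ⟨K, hKA, hKi, hK, hKc⟩ := h.abM0 x hx fun y hy z hz =>
    congrArg Subtype.val (comm_of_card_le_four h4 ⟨y, hy⟩ ⟨z, hz⟩)
  have hnil : Group.IsNilpotent K := by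
    let _ : CommGroup K := { (inferInstance : Group K) with
      mul_comm := fun y z => Subtype.ext (hKc y y.2 z z.2) }
    exact CommGroup.isNilpotent
  obtain ⟨-, -, -, h5, -⟩ := h.nilp K hKA hKi hnil hK
  obtain ⟨-, h6⟩ := h5 x hx
  have hn : (K.subgroupOf A).Normal := by
    refine ⟨fun k hk y => ?_⟩
    rw [mem_subgroupOf] at hk ⊢
    exact hKi (MulAut.conj (y : Q)) ((h.conj y).2 y.2) k hk
  have h7 : Nat.card (A ⧸ K.subgroupOf A) ≤ 4 := by
    have h8 := Subgroup.card_eq_card_quotient_mul_card_subgroup (K.subgroupOf A)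
    rw [Nat.card_congr (Subgroup.subgroupOfEquivOfLe hKA).toEquiv, ← h6, mul_comm] at h8
    rw [← Nat.eq_of_mul_eq_mul_right Nat.card_pos h8]
    exact h4
  have h8 : ∀ {y z : Q}, y ∈ A → z ∈ A → ⁅y, z⁆ ∈ K := by
    intro y z hy hz
    have h9 := comm_of_card_le_four h7 (QuotientGroup.mk (⟨y, hy⟩ : A)) (QuotientGroup.mk (⟨z, hz⟩ : A))
    have h10 : QuotientGroup.mk' (K.subgroupOf A) ⁅(⟨y, hy⟩ : A), (⟨z, hz⟩ : A)⁆ = 1 := by
      rw [map_commutatorElement, commutatorElement_eq_one_iff_mul_comm]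
      exact h9
    exact (QuotientGroup.eq_one_iff (N := K.subgroupOf A) _).1 h10
  exact hne (hKc _ (h8 ha hb) _ (h8 hc hd))

end Cfsg.Agent.H447.EP
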